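/-!
The relators of a presentation of a simple group of order `175560` on four involutions, the first three
of which generate a subgroup of index 266.
-/

set_option autoImplicit false

namespace CfsgLib.Coset.J1

/-- The relators as numeric words. -/
def rels : List (List Nat) := [[0, 0], [1, 1], [2, 2], [3, 3], [0, 1, 0, 1, 2, 0, 1, 2, 0, 2, 0, 2, 1, 2, 1], [0, 1, 0, 2, 1, 2, 0, 1, 2, 0, 2, 1, 0, 2, 1, 2], [0, 1, 2, 0, 1, 2, 1, 0, 2, 0, 1, 2, 1, 0, 2, 1], [0, 1, 0, 1, 3, 1, 0, 1, 0, 3, 2, 1, 0, 1, 2, 3], [0, 1, 0, 1, 3, 2, 3, 1, 0, 1, 0, 3, 2, 0, 2, 3]]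

end CfsgLib.Coset.J1
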