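import Cfsg.Agent.Coset.J1.Order
import Cfsg.Agent.J1Orders.Main

/-! `Cfsg.Spor.J1`, the group of 7 × 7 matrices over eleven elements, is the presented group. -/

set_option autoImplicit false
set_option maxRecDepth 100000

namespace CfsgLib.Coset.J1

open Cfsg CfsgLib.J1Orders

/-- Words in the two matrices for the four involutions. -/
def matWords : List (List Nat) := [[0, 1, 0, 1, 1, 1, 1], [0, 0, 1, 1, 1, 1, 0, 1, 1, 0, 0, 1, 0], [1, 0, 1, 0, 1, 0, 0, 0, 1, 0, 0, 0, 1, 1, 1], [1, 1, 0, 0, 0, 0, 0, 0, 1, 0, 0, 0, 0, 1]]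

/-- Words in the four involutions for the two matrices. -/
def backX : List Nat := [0, 1, 2, 0, 2, 1, 3, 2, 0, 3, 0]

/-- Words in the four involutions for the two matrices. -/
def backY : List Nat := [0, 1, 3, 0, 1, 0, 3]

/-- The two matrices. -/
def Lxy : List GG := [Spor.jankoX, Spor.jankoY]

/-- The four involutions as matrices. -/
def Lm : List GG := matWords.map (ev Lxy)

/-- Substitute the words. -/
def matSubst (w : List Nat) : List Nat := (w.map fun l => matWords.getD l []).flatten

/-- The code of a product of the two matrices. -/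
def codeW : List Nat → ℕ
  | [] => oneC
  | l :: w => mulC (cond (Nat.beq l 0) xC (cond (Nat.beq l 1) yC oneC)) (codeW w)

theorem code_fl (l : Nat) : code (fl Lxy l) = cond (Nat.beq l 0) xC (cond (Nat.beq l 1) yC oneC) := by
  rcases l with _ | _ | l
  · exact code_X
  · exact code_Y
  · rw [fl_of_le _ (by simp [Lxy]), code_one]; rfl

theorem code_ev : ∀ w, code (ev Lxy w) = codeW w
  | [] => by rw [ev_nil, code_one]; rfl
  | l :: w => by rw [ev_cons, code_mul, code_ev w, code_fl]; rfl

theorem ev_Lm : ∀ w, ev Lm w = ev Lxy (matSubst w)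
  | [] => by simp [matSubst]
  | l :: w => by
    rw [ev_cons, ev_Lm w, matSubst, matSubst, List.map_cons, List.flatten_cons, ev_append]
    congr 1
    rw [fl, Lm, ← ev_nil Lxy, List.getD_map]

theorem mat_rels : ∀ w ∈ rels, ev Lm w = 1 := by
  have h : (rels.all fun w => Nat.beq (codeW (matSubst w)) oneC) = true := by decide +kernel
  intro w hw
  apply code_injective
  rw [ev_Lm, code_ev, code_one]
  exact Nat.eq_of_beq_eq_true (List.all_eq_true.mp h w hw)

theorem len_Lm : (Lm).length = 4 := rfl

/-- The map to the matrix group. -/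
noncomputable def toMat : P →* GG := numHom (L := Lm) len_Lm mat_rels

theorem Lxy_mem : ∀ w, ev Lxy w ∈ Spor.J1
  | [] => by rw [ev_nil]; exact one_mem _
  | l :: w => by
    rw [ev_cons]
    refine mul_mem ?_ (Lxy_mem w)
    rcases l with _ | _ | l
    · exact X_mem
    · exact Y_mem
    · rw [fl_of_le _ (by simp [Lxy])]; exact one_mem _

theorem range_toMat : toMat.range = Spor.J1 := by
  refine le_antisymm ?_ ?_
  · rw [toMat, range_numHom, Subgroup.closure_le]
    intro x hx
    obtain ⟨w, -, rfl⟩ := List.mem_map.mp hx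
    exact Lxy_mem w
  · rw [Spor.J1, Subgroup.closure_le]
    rintro x (rfl | hx)
    · refine ⟨ev Lp backX, code_injective ?_⟩
      rw [toMat, numHom_ev, ev_Lm, code_ev, code_X]
      decide +kernel
    · rw [Set.mem_singleton_iff.mp hx]
      refine ⟨ev Lp backY, code_injective ?_⟩
      rw [toMat, numHom_ev, ev_Lm, code_ev, code_Y]
      decide +kernel

theorem toMat_injective : Function.Injective toMat := by
  have := isSimple
  rcases Subgroup.Normal.eq_bot_or_eq_top toMat.normal_ker with h | h
  · exact (MonoidHom.ker_eq_bot_iff toMat).mp h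
  · exfalso
    obtain ⟨g, hg⟩ : Spor.jankoX ∈ toMat.range := range_toMat ▸ X_mem
    rw [MonoidHom.mem_ker.mp (h ▸ Subgroup.mem_top g : g ∈ toMat.ker)] at hg
    have := congrArg code hg
    rw [code_one, code_X] at this
    exact absurd this (by decide +kernel)

/-- The presented group is `Cfsg.Spor.J1`. -/
noncomputable def equivSpor : P ≃* Spor.J1 :=
  (MonoidHom.ofInjective toMat_injective).trans (MulEquiv.subgroupCongr range_toMat)

theorem spor_isJ1 : Cfsg.IsJ1 Spor.J1 :=
  ⟨equivSpor.isSimpleGroup_congr.mp isSimple,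
    (Nat.card_congr equivSpor.toEquiv).symm.trans card_and_injective.1⟩

theorem matrix_realization : ∃ x y : GL (Fin 7) (ZMod 11),
    (x : Matrix (Fin 7) (Fin 7) (ZMod 11)) = Cfsg.jankoMatrixX ∧
    (y : Matrix (Fin 7) (Fin 7) (ZMod 11)) = Cfsg.jankoMatrixY ∧
    Cfsg.IsJ1 (Subgroup.closure ({x, y} : Set (GL (Fin 7) (ZMod 11)))) :=
  ⟨Spor.jankoX, Spor.jankoY, rfl, rfl, spor_isJ1⟩

end CfsgLib.Coset.J1
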