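import Cfsg.Agent.Coset.Table
import Cfsg.Agent.Coset.J1.Rels
import Cfsg.Agent.Coset.J1.TopData

set_option autoImplicit false
set_option maxRecDepth 100000

namespace CfsgLib.Coset.J1.Top

theorem hR : checkRules rels subs R = true := by decide +kernel
theorem hdefs : checkDefs E 4 11 1260 = true := by decide +kernel
theorem hsteps : checkChunks E id R 4 6 1260 38 C = true := by decide +kernel
theorem htable : checkTable E id (1260 + chunk * 38) 266 4 9 2 Rep Ref Tb = true := by decide +kernel
theorem hperm : checkPerm id 266 4 9 2 Tb = true := by decide +kernel
theorem hrels : checkRels 266 9 Tb rels = true := by decide +kernel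
theorem htrans : checkTrans 266 4 9 Tb Par = true := by decide +kernel

end CfsgLib.Coset.J1.Top
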